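import Mathlib
import Groth.Agent.Lib.Helper5.RegSm.A
import Groth.Agent.Lib.Helper5.SmTower.A
import Groth.Agent.Lib.Helper2.DimFG
import Groth.Agent.Lib.Helper7.Reg1

set_option autoImplicit false
universe u

open TensorProduct IsLocalRing KaehlerDifferential

namespace Groth.Agent.H5.SmVar

theorem ringKrullDim_quotient_nilradical (A : Type u) [CommRing A] :
    ringKrullDim (A ⧸ nilradical A) = ringKrullDim A := by
  rw [ringKrullDim_quotient, ringKrullDim]
  have h : PrimeSpectrum.zeroLocus (nilradical A : Set A) = Set.univ :=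
    PrimeSpectrum.zeroLocus_nilradical
  exact Order.krullDim_eq_of_orderIso ((OrderIso.setCongr _ _ h).trans OrderIso.Set.univ)

section
variable (k : Type u) [Field k] [IsAlgClosed k] (A : Type u) [CommRing A] [Algebra k A]
  [Algebra.FiniteType k A]

theorem residue_bijective (m : Ideal A) [m.IsMaximal] :
    Function.Bijective (algebraMap k (ResidueField (Localization.AtPrime m))) := by
  letI := Ideal.Quotient.field m
  haveI : Module.Finite k (A ⧸ m) := finite_of_finite_type_of_isJacobsonRing k (A ⧸ m)
  haveI : Algebra.IsIntegral k (A ⧸ m) := Algebra.IsIntegral.of_finite k (A ⧸ m)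
  have h1 : Function.Bijective (algebraMap k (A ⧸ m)) :=
    IsAlgClosed.algebraMap_bijective_of_isIntegral
  have h2 := m.bijective_algebraMap_quotient_residueField
  have : algebraMap k (ResidueField (Localization.AtPrime m)) =
      (algebraMap (A ⧸ m) m.ResidueField).comp (algebraMap k (A ⧸ m)) := by
    ext x
    simp only [RingHom.comp_apply]
    rw [← IsScalarTower.algebraMap_apply k (A ⧸ m) m.ResidueField]
  rw [this]
  exact h2.comp h1

theorem finrank_fibre_eq (m : Ideal A) [m.IsMaximal] :
    Module.finrank m.ResidueField (m.ResidueField ⊗[A] Ω[A⁄k]) =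
      Module.finrank (ResidueField (Localization.AtPrime m))
        (CotangentSpace (Localization.AtPrime m)) := by
  rw [(Groth.Agent.H5.SmTower.e₂ k A m).finrank_eq,
    (Groth.Agent.H3.KReg.cotangentSpaceEquiv k (Localization.AtPrime m)
      (residue_bijective k A m)).finrank_eq]

omit [IsAlgClosed k] in
include k in
theorem ringKrullDim_localization_maximal (hirr : (nilradical A).IsPrime) (n : ℕ)
    (hn : ringKrullDim A = n) (m : Ideal A) [hm : m.IsMaximal] :
    ringKrullDim (Localization.AtPrime m) = n := by
  rw [IsLocalization.AtPrime.ringKrullDim_eq_height m]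
  refine le_antisymm (hn ▸ Ideal.height_le_ringKrullDim_of_isPrime) ?_
  haveI : IsDomain (A ⧸ nilradical A) := Ideal.Quotient.isDomain _
  have hle : nilradical A ≤ m := nilradical_le_prime m
  have hker : RingHom.ker (Ideal.Quotient.mk (nilradical A)) ≤ m := by
    rw [Ideal.mk_ker]; exact hle
  haveI hm' : (m.map (Ideal.Quotient.mk (nilradical A))).IsMaximal :=
    Ideal.IsMaximal.map_of_surjective_of_ker_le Ideal.Quotient.mk_surjective hker
  have h1 := Groth.Agent.H2.DimFG.height_eq_ringKrullDim_of_isMaximal k (A ⧸ nilradical A)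
    (m.map (Ideal.Quotient.mk (nilradical A)))
  rw [ringKrullDim_quotient_nilradical A, hn] at h1
  rw [← h1]
  have hcomap : (m.map (Ideal.Quotient.mk (nilradical A))).comap (Ideal.Quotient.mk (nilradical A)) = m := by
    rw [Ideal.comap_map_of_surjective' _ Ideal.Quotient.mk_surjective, sup_eq_left]
    exact hker
  have hsm : StrictMono (PrimeSpectrum.comap (Ideal.Quotient.mk (nilradical A))) :=
    Monotone.strictMono_of_injective (fun p q hpq => Ideal.comap_mono hpq)
      (PrimeSpectrum.comap_injective_of_surjective _ Ideal.Quotient.mk_surjective)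
  have h2 := Order.height_le_height_apply_of_strictMono _ hsm
    (⟨m.map (Ideal.Quotient.mk (nilradical A)), hm'.isPrime⟩ : PrimeSpectrum (A ⧸ nilradical A))
  rw [← PrimeSpectrum.height_eq_orderHeight, ← PrimeSpectrum.height_eq_orderHeight] at h2
  have h3 : (PrimeSpectrum.comap (Ideal.Quotient.mk (nilradical A))
      ⟨m.map (Ideal.Quotient.mk (nilradical A)), hm'.isPrime⟩).asIdeal = m := hcomap
  rw [h3] at h2
  exact_mod_cast h2


omit [IsAlgClosed k] [Algebra.FiniteType k A] [Algebra k A] in
theorem eq_univ_of_isOpen_of_maximal (U : Set (PrimeSpectrum A)) (hU : IsOpen U)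
    (h : ∀ (m : Ideal A) (hm : m.IsMaximal), (⟨m, hm.isPrime⟩ : PrimeSpectrum A) ∈ U) :
    U = Set.univ := by
  by_contra hne
  have hc : IsClosed Uᶜ := hU.isClosed_compl
  obtain ⟨I, hI⟩ := (PrimeSpectrum.isClosed_iff_zeroLocus_ideal _).mp hc
  have hne' : (Uᶜ).Nonempty := by
    rw [Set.nonempty_compl]; exact hne
  obtain ⟨x, hx⟩ := hne'
  have hItop : I ≠ ⊤ := by
    rintro rfl
    rw [hI] at hx
    simp at hx
  obtain ⟨m, hm, hIm⟩ := Ideal.exists_le_maximal I hItop
  have : (⟨m, hm.isPrime⟩ : PrimeSpectrum A) ∈ Uᶜ := by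
    rw [hI]; exact hIm
  exact this (h m hm)

theorem main (hirr : (nilradical A).IsPrime) (n : ℕ) (hn : ringKrullDim A = n) :
    (IsReduced A ∧ IsRegularRing A) ↔
      (Module.Projective A (Ω[A⁄k]) ∧
        ∀ (P : Ideal A) [P.IsPrime],
          Module.finrank P.ResidueField (P.ResidueField ⊗[A] Ω[A⁄k]) = n) := by
  haveI : IsNoetherianRing A := Algebra.FiniteType.isNoetherianRing k A
  haveI : Algebra.FinitePresentation k A := Algebra.FinitePresentation.of_finiteType.mp inferInstance
  have key : ∀ (m : Ideal A) [m.IsMaximal],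
      IsRegularLocalRing (Localization.AtPrime m) ↔
        Module.finrank m.ResidueField (m.ResidueField ⊗[A] Ω[A⁄k]) = n := by
    intro m _
    rw [IsRegularLocalRing.iff_finrank_cotangentSpace, finrank_fibre_eq k A m,
      ringKrullDim_localization_maximal k A hirr n hn m]
    norm_cast
  constructor
  · rintro ⟨-, hreg⟩
    haveI : Algebra.FormallySmooth k A :=
      (Groth.Agent.H5.RegSm.isRegularRing_iff_formallySmooth k A).mp hreg
    haveI : Module.Projective A (Ω[A⁄k]) := inferInstance
    refine ⟨inferInstance, ?_⟩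
    intro P _
    obtain ⟨m, hm, hPm⟩ := Ideal.exists_le_maximal P (Ideal.IsPrime.ne_top inferInstance)
    haveI := hm
    have h1 := Module.rankAtStalk_eq_of_le_of_finite_of_flat' (Ω[A⁄k]) hPm
    rw [← Ideal.finrank_fiber_eq_rankAtStalk, ← Ideal.finrank_fiber_eq_rankAtStalk] at h1
    show Module.finrank P.ResidueField (P.Fiber (Ω[A⁄k])) = n
    rw [h1]
    exact (key m).mp (hreg.isRegularLocalRing_localization m)
  · rintro ⟨hproj, hrank⟩
    have hloc : ∀ (m : Ideal A) [m.IsMaximal], IsRegularLocalRing (Localization.AtPrime m) :=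
      fun m _ => (key m).mpr (hrank m)
    have hFS : Algebra.FormallySmooth k A := by
      rw [← Algebra.smoothLocus_eq_univ_iff]
      apply eq_univ_of_isOpen_of_maximal A _ Algebra.isOpen_smoothLocus
      intro m hm
      haveI := hm
      show Algebra.FormallySmooth k (Localization.AtPrime m)
      haveI : Algebra.EssFiniteType A (Localization.AtPrime m) :=
        Algebra.EssFiniteType.of_isLocalization _ m.primeCompl
      haveI : Algebra.EssFiniteType k (Localization.AtPrime m) :=
        Algebra.EssFiniteType.comp k A _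
      haveI := hloc m
      exact Groth.Agent.H3.KReg.formallySmooth_of_isRegularLocalRing_of_perfectField k _
    refine ⟨?_, (Groth.Agent.H5.RegSm.isRegularRing_iff_formallySmooth k A).mpr hFS⟩
    apply isReduced_ofLocalizationMaximal
    intro m hm
    haveI := hm
    haveI := hloc m
    haveI : IsDomain (Localization.AtPrime m) := Groth.Agent.H7.Reg.isDomain _
    infer_instance

end

end Groth.Agent.H5.SmVar
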